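import Groth.Agent.VBCurve.K784.SubSemiAux
import Groth.Agent.VBCurve.K471.SubD
import Groth.Agent.VBCurve.K569.SubInv

/-!
# Openness of the vanishing of `H¹(C, M(-∑ x))` on the powers of the curve (node SUB-SEMI of S15230)
-/

set_option autoImplicit false
universe u
open CategoryTheory CategoryTheory.Limits AlgebraicGeometry

namespace K553.Sub

variable {k : Type u} [Field k] [IsAlgClosed k] (C : Over (Spec (CommRingCat.of k)))
  [IsIntegral C.left] [IsProper C.hom] [Smooth C.hom] (hdim : topologicalKrullDim C.left = 1)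

include hdim in
/-- On `C^n` the condition `H¹(C, M(-∑ x)) = 0` is open. -/
theorem exists_open_H1 (n : ℕ) (M : C.left.Modules) (hM : PicF.IsInvertible M) :
    ∃ U : (Pw C n).left.Opens, ∀ t : pt (Spec (CommRingCat.of k)) ⟶ Pw C n,
      (atp t ∈ U ↔ Subsingleton (Coh.HH C.left (twp M (pts fun i => t ≫ crd C n i)) 1)) :=
  K784.SubSemi.exists_open_H1_of n M (isInvertible_tw C hdim M hM _ _) fun f l y =>
    ⟨(nonempty_tw_pull f M l y).choose⟩

end K553.Sub
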