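import Groth.Agent.VBCurve.K553.SubDefs2
import Groth.Agent.AbVar.K527.FibreVan
import Groth.Agent.Ega3B.PicTwist
import Groth.Agent.Ega3B.FlatTensInv
import Groth.Agent.PerfB.StructFlat

/-!
# Openness of the vanishing of `H¹(C, M(-∑ x))` on the powers of the curve: general part

* `sl t : C ⟶ T ×_S C`: the slice over a point `t : S ⟶ T`, a pullback of `t` along `pr`;
* `exists_open`: for an invertible `F` on `T ×_k C` the points `t` such that `H¹(C, (sl t)^* F) = 0` are the
  rational points of an open set of `T`.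
-/

set_option autoImplicit false
universe u
open CategoryTheory CategoryTheory.Limits AlgebraicGeometry K553.Sub

namespace K784.SubSemi

section gen

variable {S : Scheme.{u}} {C T : Over S}

/-- The slice `C ⟶ T ×_S C` over the point `t` of `T`. -/
noncomputable def sl (t : pt S ⟶ T) : C ⟶ TX C T := lft (toPt C ≫ t) (𝟙 C)

@[reassoc (attr := simp)]
theorem sl_pr (t : pt S ⟶ T) : sl (C := C) t ≫ pr C T = toPt C ≫ t := lft_pr _ _

@[reassoc (attr := simp)]
theorem sl_qr (t : pt S ⟶ T) : sl (C := C) t ≫ qr C T = 𝟙 C := lft_qr _ _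

theorem isPullback_sl (t : pt S ⟶ T) : IsPullback (sl (C := C) t).left C.hom (pr C T).left t.left := by
  have h1 : IsPullback (qr C T).left (pr C T).left C.hom T.hom := (IsPullback.of_hasPullback T.hom C.hom).flip
  have e1 : (sl (C := C) t).left ≫ (qr C T).left = 𝟙 C.left := by
    rw [← Over.comp_left, sl_qr]; rfl
  have e2 : t.left ≫ T.hom = 𝟙 S := Over.w t
  have e3 : (sl (C := C) t).left ≫ (pr C T).left = C.hom ≫ t.left := by
    rw [← Over.comp_left, sl_pr]; rfl
  have h2 : IsPullback (𝟙 C.left) C.hom C.hom (𝟙 S) := IsPullback.of_horiz_isIso ⟨by simp⟩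
  refine IsPullback.of_right ?_ e3 h1
  rw [e1, e2]
  exact h2

instance [IsProper C.hom] : IsProper (pr C T).left := inferInstanceAs (IsProper (pullback.fst T.hom C.hom))

instance [Flat C.hom] : Flat (pr C T).left := inferInstanceAs (Flat (pullback.fst T.hom C.hom))

instance isProper_Pw [IsProper C.hom] (n : ℕ) : IsProper (Pw C n).hom := by
  induction n with
  | zero => exact inferInstanceAs (IsProper (𝟙 S))
  | succ n ih => exact inferInstanceAs (IsProper (pullback.fst (Pw C n).hom C.hom ≫ (Pw C n).hom))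

end gen

section field

variable {k : Type u} [Field k] {C T : Over (Spec (CommRingCat.of k))} [IsProper C.hom] [Flat C.hom]

/-- The rational points `t` of `T` with `H¹(C, (sl t)^* F) = 0`. -/
theorem exists_open [LocallyOfFiniteType T.hom] (F : (TX C T).left.Modules) (hF : PicF.IsInvertible F) :
    ∃ U : T.left.Opens, ∀ t : pt (Spec (CommRingCat.of k)) ⟶ T,
      (atp t ∈ U ↔ Subsingleton (Coh.HH C.left ((Scheme.Modules.pullback (sl t).left).obj F) 1)) := by
  have hN : IsLocallyNoetherian T.left := LocallyOfFiniteType.isLocallyNoetherian T.hom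
  have hcoh : Coh.IsCoh F := Groth.Agent.Ega3B.PicTwist.isCoh_of_isInvertible hF
  have hfl : FlatMod.IsFlatOver (pr C T).left F := by
    have h := Groth.Agent.Ega3B.FlatTensInv.isFlatOver_tensor (pr C T).left hF
      (Groth.Agent.PerfB.StructFlat.isFlatOver_structure (pr C T).left)
    intro x
    exact Groth.Agent.Models2.FlatIso.isFlatOverAt_of_iso _ (Groth.Agent.Ega2.Tens.lunit F) x (h x)
  refine ⟨⟨_, K527.FibreVan.isOpen_van (pr C T).left F hcoh hfl 1⟩, fun t => ?_⟩
  exact K527.FibreVan.fiberH_iff (pr C T).left F hcoh.1 t.left (sl (C := C) t).left C.hom (isPullback_sl t) 0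

/-- On `C^n` the condition `H¹(C, M(-∑ x)) = 0` is open, given the invertibility and the compatibility with
pullbacks of the modules `tw`. -/
theorem exists_open_H1_of (n : ℕ) (M : C.left.Modules)
    (hinv : PicF.IsInvertible (tw M (up (List.ofFn (crd C n)).reverse) (qr C (Pw C n))))
    (hpull : ∀ (f : C ⟶ TX C (Pw C n)) (l : List (TX C (Pw C n) ⟶ C)) (y : TX C (Pw C n) ⟶ C),
      Nonempty ((Scheme.Modules.pullback f.left).obj (tw M l y) ≅ tw M (l.map fun z => f ≫ z) (f ≫ y))) :
    ∃ U : (Pw C n).left.Opens, ∀ t : pt (Spec (CommRingCat.of k)) ⟶ Pw C n,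
      (atp t ∈ U ↔ Subsingleton (Coh.HH C.left (twp M (pts fun i => t ≫ crd C n i)) 1)) := by
  obtain ⟨U, hU⟩ := exists_open _ hinv
  refine ⟨U, fun t => (hU t).trans ?_⟩
  obtain ⟨e⟩ := hpull (sl (C := C) t) (up (List.ofFn (crd C n)).reverse) (qr C (Pw C n))
  have h1 : (up (List.ofFn (crd C n)).reverse).map (fun z => sl (C := C) t ≫ z) =
      (pts fun i => t ≫ crd C n i).map cst := by
    unfold up pts
    rw [List.map_map, List.map_reverse, List.map_reverse, List.map_ofFn, List.map_ofFn]
    refine congrArg (fun f => (List.ofFn f).reverse) (funext fun i => ?_)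
    simp only [Function.comp_apply, sl_pr_assoc, cst]
  have h2 : tw M ((up (List.ofFn (crd C n)).reverse).map fun z => sl (C := C) t ≫ z)
      (sl (C := C) t ≫ qr C (Pw C n)) = twp M (pts fun i => t ≫ crd C n i) := by
    rw [h1, sl_qr]
    rfl
  rw [h2] at e
  exact ⟨Groth.Agent.Flat2D.LocalGlobalH.subsingleton_HH_of_iso e 1,
    Groth.Agent.Flat2D.LocalGlobalH.subsingleton_HH_of_iso e.symm 1⟩

end field

end K784.SubSemi
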